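import Groth.Agent.CompSurj.Geom
import Groth.Agent.GeomConn.Basic
import Mathlib.RingTheory.Etale.StandardEtale
import Mathlib.FieldTheory.PurelyInseparable.Basic
import Mathlib.AlgebraicGeometry.Morphisms.UniversallyInjective

/-!
# Geometric connectedness is tested on finite separable extensions, realized by etale neighbourhoods
-/

set_option autoImplicit false

open CategoryTheory CategoryTheory.Limits AlgebraicGeometry TensorProduct Polynomial
open Groth.Agent.CompSurj

set_option backward.isDefEq.respectTransparency false

namespace Groth.Agent.GeomConnSep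

universe u

theorem universallyInjective_spec {F G : Type u} [Field F] [Field G] [Algebra F G] [IsPurelyInseparable F G] :
    UniversallyInjective (Spec.map (CommRingCat.ofHom (algebraMap F G))) := by
  refine ((tfae_universallyInjective _).out 0 1).mpr ?_
  intro K inst a b hab
  letI := inst
  dsimp only at hab
  obtain ⟨a', rfl⟩ := Spec.map_surjective a
  obtain ⟨b', rfl⟩ := Spec.map_surjective b
  simp only [← Spec.map_comp] at hab
  refine congrArg Spec.map (CommRingCat.hom_ext ?_)
  have h1 : a'.hom.comp (algebraMap F G) = b'.hom.comp (algebraMap F G) :=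
    congrArg CommRingCat.Hom.hom (Spec.map_injective hab)
  exact IsPurelyInseparable.injective_comp_algebraMap F G K h1

/-- Connectedness over a finite extension follows from connectedness over its separable part. -/
theorem connectedSpace_of_insep {k : Type u} [Field k] {X : Scheme.{u}} (f : X ⟶ Spec (CommRingCat.of k))
    (G : Type u) [Field G] [Algebra k G] [FiniteDimensional k G]
    (h : ConnectedSpace ↥(pullback f (w (k := k) (separableClosure k G)))) :
    ConnectedSpace ↥(pullback f (w (k := k) G)) := by
  let F := separableClosure k G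
  let p := proj f F G
  haveI : UniversallyInjective (Spec.map (CommRingCat.ofHom (algebraMap F G))) := universallyInjective_spec
  haveI : UniversallyInjective p :=
    MorphismProperty.of_isPullback (P := @UniversallyInjective) (isPullback_proj f F G).flip inferInstance
  haveI : Algebra.IsAlgebraic k G := inferInstance
  have hb : Function.Bijective p := ⟨p.injective, p.surjective⟩
  let e : ↥(pullback f (w (k := k) G)) ≃ₜ ↥(pullback f (w (k := k) F)) :=
    (Equiv.ofBijective _ hb).toHomeomorphOfContinuousOpen p.continuous p.isOpenMap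
  exact e.symm.surjective.connectedSpace e.symm.continuous

/-- A scheme over a field whose base changes to all finite separable extensions are connected is
geometrically connected. -/
theorem isConnected_algClosure {k : Type u} [Field k] {X : Scheme.{u}} (f : X ⟶ Spec (CommRingCat.of k))
    (h : ∀ (F : Type u) [Field F] [Algebra k F], FiniteDimensional k F → Algebra.IsSeparable k F →
      ConnectedSpace ↥(pullback f (w (k := k) F))) :
    ConnectedSpace ↥(pullback f (w (k := k) (AlgebraicClosure k))) := by
  let K := AlgebraicClosure k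
  have hlev : ∀ F : IntermediateField k K, FiniteDimensional k F →
      ConnectedSpace ↥(pullback f (w (k := k) F)) := fun F hF => by
    haveI := hF
    exact connectedSpace_of_insep f F (h _ inferInstance inferInstance)
  haveI := hlev ⊥ inferInstance
  obtain ⟨a⟩ : Nonempty ↥(pullback f (w (k := k) K)) := by
    obtain ⟨b⟩ : Nonempty ↥(pullback f (w (k := k) (⊥ : IntermediateField k K))) := inferInstance
    obtain ⟨a, -⟩ := (proj f (⊥ : IntermediateField k K) K).surjective b
    exact ⟨a⟩
  haveI : Nonempty ↥(pullback f (w (k := k) K)) := ⟨a⟩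
  haveI : PreconnectedSpace ↥(pullback f (w (k := k) K)) := by
    refine preconnectedSpace_iff_clopen.mpr fun W hW => ?_
    rcases Set.eq_empty_or_nonempty W with hne | hne
    · exact Or.inl hne
    refine Or.inr (Set.eq_univ_iff_forall.mpr fun y => ?_)
    by_contra hy
    obtain ⟨R, j, hj, hx, -⟩ := Scheme.exists_affine_mem_range_and_range_subset
      (show pullback.fst f (w (k := k) K) y ∈ (⊤ : X.Opens) from trivial)
    haveI := hj
    letI : Algebra k R := (Spec.preimage (j ≫ f)).hom.toAlgebra
    have hjf : Spec.map (CommRingCat.ofHom (algebraMap k R)) = j ≫ f := Spec.map_preimage (j ≫ f)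
    obtain ⟨s, hs⟩ := mem_range_chart f K j hjf hx
    obtain ⟨_, ⟨e, rfl⟩, hse, heU⟩ := PrimeSpectrum.isTopologicalBasis_basic_opens.exists_subset_of_mem_open
      (show s ∈ chart f K j hjf ⁻¹' Wᶜ by show chart f K j hjf s ∈ Wᶜ; rw [hs]; exact hy)
      (hW.1.isOpen_compl.preimage (chart f K j hjf).continuous)
    obtain ⟨F, hF, e', rfl⟩ := exists_finite_level e
    haveI := hlev F hF
    let p := proj f F K
    let φ := CommRingCat.ofHom
      (Algebra.TensorProduct.map (AlgHom.id k R) (IsScalarTower.toAlgHom k F K)).toRingHom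
    have hnat : chart f K j hjf ≫ p = Spec.map φ ≫ chart f F j hjf := chart_proj f F K j hjf
    have himg : p '' W = Set.univ :=
      IsClopen.eq_univ ⟨p.isClosedMap W hW.1, p.isOpenMap W hW.2⟩ (hne.image p)
    obtain ⟨v, hv, hvy⟩ : p y ∈ p '' W := himg.symm ▸ Set.mem_univ _
    obtain ⟨s', hs'⟩ := mem_range_chart f K j hjf (y := v) (by
      rw [← proj_fst f F K, Scheme.Hom.comp_apply, hvy, ← Scheme.Hom.comp_apply, proj_fst]
      exact hx)
    refine heU (?_ : s' ∈ _) (show chart f K j hjf s' ∈ W by rw [hs']; exact hv)
    have : Spec.map φ s' = Spec.map φ s := (chart f F j hjf).isOpenEmbedding.injective (by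
      rw [← Scheme.Hom.comp_apply, ← Scheme.Hom.comp_apply, ← hnat, Scheme.Hom.comp_apply,
        Scheme.Hom.comp_apply, hs, hs', hvy])
    have hse' : Spec.map φ s ∈ (PrimeSpectrum.basicOpen e').1 := hse
    rw [← this] at hse'
    exact hse'
  exact ⟨inferInstance⟩

/-- A finite separable extension of a residue field is the residue field of an etale neighbourhood. -/
theorem exists_etale_point {A : Type u} [CommRing A] {k : Type u} [Field k] (φ : A →+* k)
    (hφ : ∀ z : k, ∃ a d : A, φ d ≠ 0 ∧ z * φ d = φ a) (F : Type u) [Field F]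
    [Algebra k F] [FiniteDimensional k F] [Algebra.IsSeparable k F] :
    ∃ (B : Type u) (_ : CommRing B) (_ : Algebra A B), Algebra.Etale A B ∧
      ∃ (χ : B →+* F), χ.comp (algebraMap A B) = (algebraMap k F).comp φ ∧
        ∀ z : F, ∃ b c : B, χ c ≠ 0 ∧ χ b = z * χ c := by
  classical
  obtain ⟨α, hα⟩ := Field.exists_primitive_element k F
  let h := minpoly k α
  -- clear denominators of the coefficients
  have hden : ∀ i, ∃ a d : A, φ d ≠ 0 ∧ h.coeff i * φ d = φ a := fun i => hφ _
  choose a d hd had using hden
  let D : A := ∏ i ∈ Finset.range (h.natDegree + 1), d i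
  have hD : φ D ≠ 0 := by
    rw [map_prod]
    exact Finset.prod_ne_zero_iff.mpr fun i _ => hd i
  let L := Localization.Away D
  let ψ : L →+* k := IsLocalization.Away.lift D (g := φ)
    (Ne.isUnit hD)
  have hψ : ψ.comp (algebraMap A L) = φ := IsLocalization.Away.lift_comp D _
  have hl : h ∈ Polynomial.lifts ψ := by
    rw [Polynomial.lifts_iff_coeff_lifts]
    intro i
    by_cases hi : i ∈ Finset.range (h.natDegree + 1)
    · obtain ⟨e, he⟩ := Finset.dvd_prod_of_mem d hi
      obtain ⟨v, hv⟩ := isUnit_of_mul_isUnit_left (y := algebraMap A L e)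
        (by rw [← map_mul, ← he]; exact IsLocalization.Away.algebraMap_isUnit D)
      refine ⟨algebraMap A L (a i) * v.inv, ?_⟩
      have h1 : ψ v.inv * φ (d i) = 1 := by
        rw [← hψ, RingHom.comp_apply, ← map_mul, ← hv, Units.inv_eq_val_inv, Units.inv_mul, map_one]
      rw [map_mul, ← RingHom.comp_apply, hψ, ← had i, mul_assoc, mul_comm (φ (d i)), h1, mul_one]
    · exact ⟨0, by rw [map_zero, Polynomial.coeff_eq_zero_of_natDegree_lt (by simpa using hi)]⟩
  obtain ⟨q, hq, -, hqm⟩ := Polynomial.lifts_and_degree_eq_and_monic hl (minpoly.monic (IsIntegral.of_finite _ _))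
  let P : StandardEtalePair L := ⟨q, hqm, derivative q, 1, 0, 1, by simp⟩
  letI : Algebra L F := ((algebraMap k F).comp ψ).toAlgebra
  have hmap : P.HasMap α := by
    refine ⟨?_, ?_⟩
    · rw [aeval_def, show algebraMap L F = (algebraMap k F).comp ψ from rfl, ← eval₂_map, hq]
      exact minpoly.aeval _ α
    · rw [aeval_def, show algebraMap L F = (algebraMap k F).comp ψ from rfl, ← eval₂_map,
        show P.g = derivative q from rfl, ← derivative_map, hq]
      exact isUnit_iff_ne_zero.mpr
        ((Algebra.IsSeparable.isSeparable k α).aeval_derivative_ne_zero (minpoly.aeval _ α))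
  let χ := (P.lift α hmap).toRingHom
  letI : Algebra A P.Ring := ((algebraMap L P.Ring).comp (algebraMap A L)).toAlgebra
  haveI : IsScalarTower A L P.Ring := IsScalarTower.of_algebraMap_eq' rfl
  haveI : Algebra.Etale A L := Algebra.Etale.of_isLocalizationAway D
  have hχA : χ.comp (algebraMap A P.Ring) = (algebraMap k F).comp φ := by
    ext x
    change P.lift α hmap (algebraMap L P.Ring (algebraMap A L x)) = _
    rw [AlgHom.commutes, ← hψ]
    rfl
  refine ⟨P.Ring, inferInstance, inferInstance, Algebra.Etale.comp A L P.Ring, χ, hχA, fun z => ?_⟩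
  -- fractions of the image exhaust the field
  have hX : χ P.X = α := P.lift_X α hmap
  have hz : z ∈ Algebra.adjoin k {α} := by
    rw [← IntermediateField.adjoin_simple_toSubalgebra_of_isAlgebraic (Algebra.IsAlgebraic.isAlgebraic α), hα]
    trivial
  induction hz using Algebra.adjoin_induction with
  | mem x hx => exact ⟨P.X, 1, by simp, by rw [hX, Set.mem_singleton_iff.mp hx, map_one, mul_one]⟩
  | algebraMap r =>
    obtain ⟨b, c, hc, he⟩ := hφ r
    have hk : ∀ x : A, χ (algebraMap A P.Ring x) = algebraMap k F (φ x) :=
      fun x => RingHom.congr_fun hχA x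
    refine ⟨algebraMap A P.Ring b, algebraMap A P.Ring c, ?_, ?_⟩
    · rw [hk]
      exact (_root_.map_ne_zero _).mpr hc
    · rw [hk, hk, ← map_mul, he]
  | add x y _ _ hx hy =>
    obtain ⟨b, c, hc, hb⟩ := hx
    obtain ⟨b', c', hc', hb'⟩ := hy
    exact ⟨b * c' + b' * c, c * c', by rw [map_mul]; exact mul_ne_zero hc hc',
      by rw [map_add, map_mul, map_mul, map_mul, hb, hb']; ring⟩
  | mul x y _ _ hx hy =>
    obtain ⟨b, c, hc, hb⟩ := hx
    obtain ⟨b', c', hc', hb'⟩ := hy
    exact ⟨b * b', c * c', by rw [map_mul]; exact mul_ne_zero hc hc',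
      by rw [map_mul, map_mul, hb, hb']; ring⟩

end Groth.Agent.GeomConnSep
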